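import Cfsg.Agent.H405.Wf.Uni
import Cfsg.Agent.H533.Wf.Kills
import Cfsg.Agent.ClassicalGeometry.PSUAutMain

/-!
# The row `PSU_n(q)`, `n ≥ 3`, in the own characteristic (S3826, WF-PSU-own)

`wrow_psu` : `WRow p (PSU n F q)` for `p = char F` odd.
-/

set_option autoImplicit false

namespace Cfsg.Agent.H405.Wf

universe u v

open Cfsg Cfsg.Agent.LieClassical.HermBasic Cfsg.Agent.LieClassical.HermSiegel
open Cfsg.Agent.LieClassical.SUBasic Matrix
open Cfsg.Agent.ClassicalGeometry.PSUAutCount Cfsg.Agent.ClassicalGeometry.UnitAutBasic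
open Cfsg.Agent.H957.T5V Cfsg.Agent.H957.T5M Cfsg.Agent.H957.T5Tr Cfsg.Agent.H957.T5U
open Cfsg.Agent.H177.MeetPSU (rho rho_apply rho_injective yy yy_apply ind_yy uniq)
open Cfsg.Agent.H903.SylSemi (Ind scal scal_apply)
open Cfsg.Agent.H533.T5

variable {F : Type} [Field F] [Fintype F] {n q p : ℕ}

omit [Fintype F] in
theorem theta_order (hn0 : 0 < n) (hp : p.Prime) {θ : F ≃+* F} {x : Equiv.Perm (Fin n → F)}
    (hx : SI q θ x) (h : IsScal F (x ^ p)) : θ = 1 ∨ orderOf θ = p := by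
  have : Fact p.Prime := ⟨hp⟩
  obtain ⟨a, ha⟩ := h
  have h1 : θ ^ p = 1 := by
    have hv : ∃ v : Fin n → F, v ≠ 0 := ⟨fun _ => 1, fun h => one_ne_zero (congrFun h ⟨0, hn0⟩)⟩
    obtain ⟨v, hv⟩ := hv
    have ha0 : a ≠ 0 := by
      rintro rfl
      apply hv
      have h2 := ha v
      rw [zero_smul] at h2
      exact (x ^ p).injective (h2.trans (hx.pow p).semi.zero.symm)
    ext b
    have h2 := (hx.pow p).semi.smul b v
    rw [ha, ha, smul_smul, smul_smul, mul_comm a b] at h2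
    have h3 : (b * a - (θ ^ p) b * a) • v = 0 := by rw [sub_smul, h2, sub_self]
    have h4 := (smul_eq_zero.1 h3).resolve_right hv
    have h5 : b * a = (θ ^ p) b * a := sub_eq_zero.1 h4
    exact (mul_right_cancel₀ ha0 h5).symm
  by_cases h : θ = 1
  · exact Or.inl h
  · exact Or.inr (orderOf_eq_prime h1 h)

theorem wrow_psu (hF : Fintype.card F = q ^ 2) (hn : 3 ≤ n) (hp : p.Prime) (hp2 : p ≠ 2)
    [CharP F p] : WRow p (PSU n F q) := by
  have : Nonempty (Fin n) := ⟨⟨0, by omega⟩⟩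
  have : Nontrivial (Fin n → F) := Function.nontrivial
  have : Fact p.Prime := ⟨hp⟩
  have hn0 : 0 < n := by omega
  have hpq : p ∣ q := by
    obtain ⟨m, -, hm⟩ := FiniteField.card F p
    rw [hF] at hm
    have h3 : p ∣ q ^ 2 := by
      rw [hm]
      exact dvd_pow_self _ m.ne_zero
    exact hp.dvd_of_dvd_pow h3
  have h32 : ¬ (n = 3 ∧ q = 2) := by
    rintro ⟨-, rfl⟩
    exact hp2 ((Nat.prime_dvd_prime_iff_eq hp Nat.prime_two).1 hpq)
  have huniq : ∀ y : Equiv.Perm (Fin n → F), (∃ θ : F ≃+* F, SI q θ y) →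
      Ind (pr n F q) (rho n F q) y 1 → ∃ a : Fˣ, y = scal F (Fin n → F) a := by
    rintro y ⟨θ, hθ⟩ hy
    refine uniq hF hn ⟨θ, 1, one_ne_zero, ⟨hθ.semi.add, hθ.semi.smul⟩, fun u v => ?_⟩ hy
    rw [one_mul, hθ.herm]
  have hlin : ∀ s : SU n F q, Semi (1 : F ≃+* F) (rho n F q s) := fun s => (si_rho s).semi
  refine wrow_of (F := F) hp (π := pr n F q) pr_surjective (ρ := rho n F q) rho_injective
    hlin (W := fun y => ∃ θ : F ≃+* F, SI q θ y) ?_ ?_ ?_ huniq ?_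
  · rintro y y' ⟨θ, h⟩ ⟨θ', h'⟩
    exact ⟨θ * θ', h.mul h'⟩
  · intro s
    exact ⟨1, si_rho s⟩
  · intro β hβ
    obtain ⟨A, θ, rfl⟩ := Cfsg.Agent.ClassicalGeometry.PSUAutMain.exists_toAut hF hn h32 β
    have hy : SI q θ (yy A θ) := by
      refine ⟨⟨fun u v => ?_, fun a v => ?_⟩, fun u v => herm_semi A θ u v⟩
      · rw [yy_apply, yy_apply, yy_apply, ← Matrix.mulVec_add]
        congr 1
        funext i
        exact map_add θ _ _
      · rw [yy_apply, yy_apply, ← Matrix.mulVec_smul]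
        congr 1
        funext i
        exact map_mul θ _ _
    have hI := ind_yy A θ
    have hIp := hI.pow p
    have hβp : toAut A θ ^ p = 1 := by rw [← hβ, pow_orderOf_eq_one]
    rw [hβp] at hIp
    obtain ⟨a, ha⟩ := huniq _ ⟨_, hy.pow p⟩ hIp
    have hs : IsScal F (yy A θ ^ p) := by
      rw [ha]
      exact isScal_scal a
    have key : ∃ s : Fˣ, (s : F) * (s : F) ^ q = 1 ∧ (smulA s (yy A θ)) ^ p = 1 := by
      rcases theta_order hn0 hp hy hs with h | h
      · have hy1 : SI q (1 : F ≃+* F) (yy A θ) := by rw [← h]; exact hy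
        rcases scale_lin hF hn0 hp hp2 hy1 hs with h1 | ⟨h1, -⟩
        · exact h1
        · exfalso
          have h2 : p ∣ 1 := (Nat.dvd_add_right hpq).1 h1
          exact hp.one_lt.ne' (Nat.dvd_one.1 h2)
      · exact scale_semi hF hn0 hp hp2 h hy hs
    obtain ⟨s, hs1, hs2⟩ := key
    refine ⟨smulA s (yy A θ), ⟨θ, hy.smulA hs1⟩, hs2, ?_⟩
    have h1 : smulA s (yy A θ) = scal F (Fin n → F) s * yy A θ := by
      ext1 v
      rw [smulA_apply, Equiv.Perm.mul_apply, scal_apply]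
    rw [h1]
    have h2 := (ind_scal (π := pr n F q) hlin s).mul hI
    rwa [one_mul] at h2
  · rintro y z ⟨θ, hy⟩ ⟨θ', hz⟩ hyp hyn hzp hzn
    exact np_main hF hn hp hp2 hy hyp hyn hz hzp hzn

/-- **The row `PSU_n(3^a)`.** -/
theorem wf_psu_own {K : Type v} [Group K] [Finite K] [IsSimpleGroup K] {F : Type} [Field F]
    [Fintype F] [CharP F 3] {n q : ℕ} (hn : 3 ≤ n) (hF : Fintype.card F = q ^ 2)
    (e : Nonempty (K ≃* Cfsg.PSU n F q)) : Cfsg.Agent.H533.Wf.WfRow.{u, v} 3 K := by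
  have : Fact (Nat.Prime 3) := ⟨Nat.prime_three⟩
  obtain ⟨e⟩ := e
  exact Cfsg.Agent.H533.Wf.WfRow.of_wrow (Cfsg.Agent.H164.RowCongr.wrow_congr e.symm
    (wrow_psu hF hn Nat.prime_three (by norm_num)))

end Cfsg.Agent.H405.Wf
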