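import Cfsg.Agent.H957.T5Tr
import Cfsg.Agent.H957.T5Pairs

/-!
# Translation to weak pairs: the group generated by two semilinear maps modulo scalars

`NP F p y z` : the group generated by `y` and `z` is not a `p`-group modulo scalars.
`wrow_of` : the version of `H957.T5Tr.mrow_of` for `WRow` (the lifts may be chosen of order `p`).
-/

set_option autoImplicit false

namespace Cfsg.Agent.H405.Wf

open Cfsg.Agent.H957.T5V Cfsg.Agent.H957.T5Tr Cfsg.Agent.H957.T5Pairs Cfsg.Agent.H533.T5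
open Cfsg.Agent.H903.SylSemi (Ind scal scal_apply)

section np

variable {F : Type*} [Field F] {V : Type*} [AddCommGroup V] [Module F V]

variable (F) in
/-- The group generated by `y` and `z` is not a `p`-group modulo scalars. -/
def NP (p : ℕ) (y z : Equiv.Perm V) : Prop :=
  ∃ x ∈ Subgroup.closure ({y, z} : Set (Equiv.Perm V)), ∀ k : ℕ, ¬ IsScal F (x ^ p ^ k)

variable {p : ℕ} {y z : Equiv.Perm V}

theorem NP.symm (h : NP F p y z) : NP F p z y := by
  unfold NP at *
  rwa [Set.pair_comm]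

/-- A product of powers which is not a `p`-element modulo scalars. -/
theorem NP.of_pow (i j : ℕ) (h : ∀ k : ℕ, ¬ IsScal F ((y ^ i * z ^ j) ^ p ^ k)) : NP F p y z :=
  ⟨y ^ i * z ^ j, mul_mem (pow_mem (Subgroup.subset_closure (by simp)) _)
    (pow_mem (Subgroup.subset_closure (by simp)) _), h⟩

theorem NP.conj {σ : F ≃+* F} {w : Equiv.Perm V} (hw : Semi σ w) (h : NP F p y z) :
    NP F p (w * y * w⁻¹) (w * z * w⁻¹) := by
  obtain ⟨x, hx, h⟩ := h
  refine ⟨w * x * w⁻¹, ?_, fun k hk => h k ?_⟩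
  · clear h
    induction hx using Subgroup.closure_induction with
    | mem x hx =>
      rcases hx with rfl | rfl
      · exact Subgroup.subset_closure (by simp)
      · exact Subgroup.subset_closure (by simp)
    | one => simp
    | mul a b _ _ ha hb =>
      have : w * (a * b) * w⁻¹ = (w * a * w⁻¹) * (w * b * w⁻¹) := by group
      rw [this]
      exact mul_mem ha hb
    | inv a _ ha =>
      have : w * a⁻¹ * w⁻¹ = (w * a * w⁻¹)⁻¹ := by group
      rw [this]
      exact inv_mem ha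
  · rw [conj_pow] at hk
    have h1 := isScal_conj hw.inv hk
    have h2 : w⁻¹ * (w * x ^ p ^ k * w⁻¹) * w⁻¹⁻¹ = x ^ p ^ k := by group
    rwa [h2] at h1

/-- Passing to a subgroup. -/
theorem NP.mono {y' z' : Equiv.Perm V} (h : NP F p y' z')
    (hy : y' ∈ Subgroup.closure ({y, z} : Set (Equiv.Perm V)))
    (hz : z' ∈ Subgroup.closure ({y, z} : Set (Equiv.Perm V))) : NP F p y z := by
  obtain ⟨x, hx, h⟩ := h
  refine ⟨x, ?_, h⟩
  have h1 : Subgroup.closure ({y', z'} : Set (Equiv.Perm V)) ≤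
      Subgroup.closure ({y, z} : Set (Equiv.Perm V)) := by
    rw [Subgroup.closure_le]
    rintro a (rfl | rfl)
    · exact hy
    · exact hz
  exact h1 hx

theorem not_NP (h : ¬ NP F p y z) :
    ∀ x ∈ Subgroup.closure ({y, z} : Set (Equiv.Perm V)), ∃ k : ℕ, IsScal F (x ^ p ^ k) := by
  intro x hx
  by_contra hcon
  push Not at hcon
  exact h ⟨x, hx, hcon⟩

end np

section tr

variable {F : Type*} [Field F] {V : Type*} [AddCommGroup V] [Module F V]
  {T : Type*} [Group T] {X : Type*} [Group X]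

/-- Weak rows from the geometric statement about the groups generated by pairs. -/
theorem wrow_of [Finite T] [Finite V] [Nontrivial V] {p : ℕ} (hp : p.Prime) {π : X →* T}
    (hπ : Function.Surjective π)
    {ρ : X →* Equiv.Perm V} (hρ : Function.Injective ρ)
    (hρlin : ∀ s : X, Semi (1 : F ≃+* F) (ρ s))
    {W : Equiv.Perm V → Prop} (hWmul : ∀ y y', W y → W y' → W (y * y')) (hWρ : ∀ s : X, W (ρ s))
    (hind : ∀ c : MulAut T, orderOf c = p → ∃ y, W y ∧ y ^ p = 1 ∧ Ind π ρ y c)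
    (huniq : ∀ y, W y → Ind π ρ y 1 → ∃ a : Fˣ, y = scal F V a)
    (hcore : ∀ y z, W y → W z → y ^ p = 1 → ¬ IsScal F y → z ^ p = 1 →
      ¬ IsScal F z → ∃ s : X, NP F p y (ρ s * z * (ρ s)⁻¹)) : WRow p T := by
  have hW1 : W 1 := by simpa using hWρ 1
  have hWpow : ∀ y, W y → ∀ m : ℕ, W (y ^ m) := by
    intro y hy m
    induction m with
    | zero => simpa using hW1
    | succ m ih => rw [pow_succ]; exact hWmul _ _ ih hy
  have hWinv : ∀ y, W y → W y⁻¹ := by
    intro y hy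
    have h1 : y ^ (orderOf y - 1) = y⁻¹ := by
      rw [eq_inv_iff_mul_eq_one, ← pow_succ, Nat.sub_add_cancel (orderOf_pos y),
        pow_orderOf_eq_one]
    rw [← h1]
    exact hWpow y hy _
  have helt : ∀ c : MulAut T, orderOf c = p → ∀ y, Ind π ρ y c → ¬ IsScal F y := by
    intro c hc y hyc hs
    obtain ⟨a, rfl⟩ := exists_scal hs
    have h1 : c = 1 := Ind.unique hπ hρ hyc (ind_scal hρlin a)
    rw [h1, orderOf_one] at hc
    exact hp.one_lt.ne hc
  intro c d hc hd
  obtain ⟨y, hy, hyp, hyc⟩ := hind c hc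
  obtain ⟨z, hz, hzp, hzd⟩ := hind d hd
  have hyn := helt c hc y hyc
  have hzn := helt d hd z hzd
  obtain ⟨s, x, hx, h⟩ := hcore y z hy hz hyp hyn hzp hzn
  refine ⟨MulAut.conj (π s), ⟨π s, rfl⟩, fun hP => ?_⟩
  have e1 : (ρ s)⁻¹ = ρ s⁻¹ := (map_inv ρ s).symm
  have e2 : (MulAut.conj (π s))⁻¹ = MulAut.conj (π s⁻¹) := by rw [map_inv π, map_inv]
  have key : W x ∧ ∃ x' ∈ Subgroup.closure ({c, MulAut.conj (π s) * d * (MulAut.conj (π s))⁻¹} :
      Set (MulAut T)), Ind π ρ x x' := by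
    clear h
    induction hx using Subgroup.closure_induction with
    | mem x hx =>
      rcases hx with rfl | rfl
      · exact ⟨hy, c, Subgroup.subset_closure (by simp), hyc⟩
      · refine ⟨?_, _, Subgroup.subset_closure (Set.mem_insert_of_mem _ rfl), ?_⟩
        · rw [e1]
          exact hWmul _ _ (hWmul _ _ (hWρ s) hz) (hWρ s⁻¹)
        · rw [e1, e2]
          exact ((Ind.conj π ρ s).mul hzd).mul (Ind.conj π ρ s⁻¹)
    | one => exact ⟨hW1, 1, one_mem _, Ind.one _ _⟩
    | mul a b _ _ ha hb =>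
      obtain ⟨ha1, a', ha2, ha3⟩ := ha
      obtain ⟨hb1, b', hb2, hb3⟩ := hb
      exact ⟨hWmul _ _ ha1 hb1, a' * b', mul_mem ha2 hb2, ha3.mul hb3⟩
    | inv a _ ha =>
      obtain ⟨ha1, a', ha2, ha3⟩ := ha
      exact ⟨hWinv _ ha1, a'⁻¹, inv_mem ha2, ha3.inv⟩
  obtain ⟨hWx, x', hx', hI⟩ := key
  obtain ⟨k, hk⟩ := hP ⟨x', hx'⟩
  have hk' : x' ^ p ^ k = 1 := congrArg Subtype.val hk
  have h1 := hI.pow (p ^ k)
  rw [hk'] at h1
  obtain ⟨a, ha⟩ := huniq _ (hWpow _ hWx _) h1
  apply h k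
  rw [ha]
  exact isScal_scal a

end tr

end Cfsg.Agent.H405.Wf
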